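import Cfsg.Agent.H567.KB.E7Row
import Cfsg.Agent.H76.KJ.Basic

/-!
# S4791 + S4927, row `E₇`, `d = 4`: the numbers (helper228)

`lines4` : an element `x` of order `p` with at most four powers conjugate to it and `l(B₀(C(x))) ≥ 2`, and an element `x'` of order `p`
no power of which is conjugate to `x` (26 and 6 roots vanish). With `l(B₀(S)) ≥ 2`: `p + 5 ≤ 2 kJ`.
-/

set_option autoImplicit false
set_option maxRecDepth 100000
set_option maxHeartbeats 4000000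

namespace Cfsg.Agent.H228.XZ

open CoxeterSystem Cfsg Cfsg.Lie Cfsg.Lie.ChevalleyDatum
open Cfsg.Agent.ChevalleyStructure.CoxeterGeomTypes
open Cfsg.Agent.Nodes.RGDChev Cfsg.Agent.H129.WData Cfsg.Agent.H567.KB Cfsg.Agent.H567.KB.E7
open Cfsg.Agent.H508.KB

universe u

/-- `a4 + (1 + q) y4` -/
def b4 : (Fin 7 → ℤ) × (Fin 7 → ℤ) := (![2, 0, 0, -3, 2, 2, -2], ![0, 0, 2, -1, -2, 2, 2])

theorem b4_w : ActP (hd w4) (0) (-1) (0, 1) b4 := by decide +kernel

theorem b4_n : ∀ r ∈ Finset.range chevE7.nroots, dt b4 (vec chevE7 7 r) = 0 ∨ nrm (0) (-1) (dt b4 (vec chevE7 7 r)) ∣ (80 : ℕ) := by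
  decide +kernel

theorem b4_z : (∑ r ∈ Finset.range chevE7.nroots, if dt b4 (vec chevE7 7 r) = 0 then 1 else 0) = 6 := by
  decide +kernel

theorem a4_n : ∀ r ∈ Finset.range chevE7.nroots, dt a4 (vec chevE7 7 r) = 0 ∨ nrm (0) (-1) (dt a4 (vec chevE7 7 r)) ∣ (80 : ℕ) := by
  decide +kernel

theorem a4_z : (∑ r ∈ Finset.range chevE7.nroots, if dt a4 (vec chevE7 7 r) = 0 then 1 else 0) = 26 := by
  decide +kernel

variable {F : Type} [Field F] [Fintype F] {p : ℕ} [hpp : Fact p.Prime] {S : Type u} [Group S] [Finite S] {N : Ideal AlgInt}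

theorem not_dvd80 (h11 : 11 ≤ p) : ¬ p ∣ 80 := by
  intro h
  have hp := hpp.out
  rcases hp.dvd_mul.1 (show p ∣ 2 ^ 4 * 5 by norm_num; exact h) with h | h
  · have := Nat.le_of_dvd (by norm_num) (hp.dvd_of_dvd_pow h)
    omega
  · have := Nat.le_of_dvd (by norm_num) h
    omega

/-- two elements of order `p` -/
theorem lines4 (hM : IsPModular p N) (h11 : 11 ≤ p) (hpF : (p : F) ≠ 0) (e : S ≃* ↥(chevE7.group F))
    (hq : orderOf (Fintype.card F : ZMod p) = 4) :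
    ∃ x x' : S, orderOf x = p ∧ orderOf x' = p ∧ (∀ (g : S) (i : ℕ), g * x * g⁻¹ = x ^ i → (i : ZMod p) ^ 4 = 1) ∧
      (∀ (g : S) (i : ℕ), g * x' * g⁻¹ = x' ^ i → (i : ZMod p) ^ (p - 1) = 1) ∧ (∀ (g : S) (i : ℕ), g * x * g⁻¹ ≠ x' ^ i) ∧
      2 ≤ blockRank p (principalBlock N ↥(Subgroup.centralizer ({x} : Set S))) ∧
      1 ≤ blockRank p (principalBlock N ↥(Subgroup.centralizer ({x'} : Set S))) ∧
      2 ≤ blockRank p (principalBlock N S) := by
  obtain ⟨X, H⟩ := exists_model h11 hpF e (wo _ w4)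
  set Q := Fintype.card F with hQ
  have hno : ∀ k, k < 4 → k ≠ 0 → (Q : ZMod p) ^ k ≠ 1 := by
    intro k hk hk0 h
    have h1 := Nat.le_of_dvd (by omega) (orderOf_dvd_of_pow_eq_one h)
    omega
  have hq4 : (Q : ZMod p) ^ 4 = 1 := by rw [← hq, pow_orderOf_eq_one]
  have hq2 : (Q : ZMod p) ^ 2 = ((0 : ℤ) : ZMod p) * Q + ((-1 : ℤ) : ZMod p) := by
    have h1 : ((Q : ZMod p) ^ 2 - 1) * ((Q : ZMod p) ^ 2 + 1) = 0 := by linear_combination hq4
    have h2 := (mul_eq_zero.1 h1).resolve_left (sub_ne_zero.2 (hno 2 (by norm_num) (by norm_num)))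
    push_cast
    linear_combination h2
  have hm : ev (Q : ZMod p) (0, 1) ^ 2 ≠ 1 := by
    intro h
    apply hno 2 (by norm_num) (by norm_num)
    unfold ev at h
    push_cast at h
    linear_combination h
  have hy0 : vecq (Q : ZMod p) y4 ≠ 0 := by
    intro h
    have h1 : vecq (Q : ZMod p) y4 6 = ((0 : ℤ) : ZMod p) + ((2 : ℤ) : ZMod p) * Q := rfl
    rw [h, Pi.zero_apply, Int.cast_zero, zero_add] at h1
    rcases mul_eq_zero.1 h1.symm with h2 | h2
    · exact E7.cast_ne h11 1 0 0 (by norm_num) h2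
    · rw [h2] at hq4
      norm_num at hq4
  have h25600 : ((25600 : ℤ) : ZMod p) ≠ 0 := E7.cast_ne h11 10 0 2 (by norm_num)
  have h921600 : ((-921600 : ℤ) : ZMod p) ≠ 0 := E7.cast_ne h11 12 2 2 (by norm_num)
  obtain ⟨o1, f1⟩ := order_of H hA w4_ok hq2 a4_w (by norm_num) a4_p8 h25600
  obtain ⟨-, f2⟩ := order_of H hA w4_ok hq2 a4_w (by norm_num) a4_p12 h921600
  have hbm := mem_LamU e7T hq2 (rep_wo e7T hA w4_ok) b4_w
  have hb0 : vecq (Q : ZMod p) b4 ≠ 0 := by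
    intro h
    have h1 : vecq (Q : ZMod p) b4 6 = ev (Q : ZMod p) (-2, 2) := rfl
    rw [h, Pi.zero_apply] at h1
    exact ev_ne_zero hq2 (not_dvd80 h11) (x := (-2, 2)) (by unfold nrm; norm_num) h1.symm
  have o2 : orderOf (X (vecq (Q : ZMod p) b4)) = p :=
    orderOf_eq_prime (H.pow _ hbm) fun h => hb0 (H.inj _ hbm h)
  refine ⟨X (vecq (Q : ZMod p) a4), X (vecq (Q : ZMod p) b4), o1, o2, fun g i h => ?_, fun g i h => ?_,
    ne_of H hA w4_ok hq2 a4_w b4_w (by norm_num) a4_p8 h25600 (not_dvd80 h11) a4_n b4_n a4_z b4_z (by norm_num),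
    line_of hM H hA w4_ok v4_ok comm4 hq2 a4_w y4_w a4_v y4_v hm hy0, H296.KB.one_le_rank hM,
    rank_of hM H hA w4_ok v4_ok comm4 hq2 y4_w y4_v hm hy0⟩
  · have h1 := f1 g i h
    have h2 := f2 g i h
    rw [show 12 = 8 + 4 by norm_num, pow_add, h1, one_mul] at h2
    exact h2
  · refine ZMod.pow_card_sub_one_eq_one fun h0 => ?_
    rw [H.npow hbm, h0, zero_smul, H.zero, conj_eq_one_iff] at h
    exact hb0 (H.inj _ hbm h)

/-- **Numbers, `E₇`, `d = 4`.** -/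
theorem kJ_E7_4 {r : ℕ} [Fact r.Prime] [CharP F r] (hrp : r ≠ p) (h11 : 11 ≤ p) (hM : IsPModular p N)
    (e : Nonempty (S ≃* ↥(chevE7.group F))) (hq : orderOf (Fintype.card F : ZMod p) = 4) :
    p + 5 ≤ 2 * H508.XR.kJ p N S := by
  obtain ⟨e⟩ := e
  have hpF : (p : F) ≠ 0 := by
    intro h
    rw [CharP.cast_eq_zero_iff F r] at h
    exact hrp ((Nat.prime_dvd_prime_iff_eq Fact.out hpp.out).1 h)
  obtain ⟨x, x', o1, o2, f1, f2, hne, b1, b2, b3⟩ := lines4 hM h11 hpF e hq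
  have h1 := H76.KJ.kJ_of_two (by omega) hM x x' o1 o2 4 (p - 1) 2 1 f1 f2 hne b1 b2
  have h4 : 4 ∣ p - 1 := by
    rw [← hq]
    refine orderOf_dvd_of_pow_eq_one (ZMod.pow_card_sub_one_eq_one fun h0 => ?_)
    rw [h0, orderOf_eq_zero_iff.2] at hq
    · omega
    · intro h
      rw [isOfFinOrder_iff_pow_eq_one] at h
      obtain ⟨n, hn, h⟩ := h
      rw [zero_pow hn.ne'] at h
      exact zero_ne_one h
  rw [Nat.div_self (by omega)] at h1
  omega

end Cfsg.Agent.H228.XZ
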